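import Cfsg.Agent.Spor.ThN1.D0

set_option autoImplicit false
set_option maxRecDepth 100000000
set_option Elab.async false

namespace Cfsg.Agent.Spor.ThN1

theorem ok0 : Net.okb 1 n0 = true := by decide +kernel

theorem ok1 : Net.okb 1 n1 = true := by decide +kernel

theorem ok2 : Net.okb 1 n2 = true := by decide +kernel

theorem ok3 : Net.okb 1 n3 = true := by decide +kernel

theorem ok4 : Net.okb 1 n4 = true := by decide +kernel

theorem ok5 : Net.okb 1 n5 = true := by decide +kernel

theorem ok6 : Net.okb 1 n6 = true := by decide +kernel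

theorem ok7 : Net.okb 1 n7 = true := by decide +kernel

theorem rel0 : T.rel 1 [1, 1] 0 1 = true := by decide +kernel

theorem rel1 : T.rel 1 [2, 2] 0 1 = true := by decide +kernel

theorem rel2 : T.rel 1 [3, 3] 0 1 = true := by decide +kernel

theorem rel3 : T.rel 1 [4, 4] 0 1 = true := by decide +kernel

theorem rel4 : T.rel 1 [5, 5] 0 1 = true := by decide +kernel

theorem rel5 : T.rel 1 [2, 1, 2, 1, 2, 1] 0 1 = true := by decide +kernel

theorem rel6 : T.rel 1 [5, 1, 5, 1] 0 1 = true := by decide +kernel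

theorem rel7 : T.rel 1 [3, 2, 3, 2, 3, 2] 0 1 = true := by decide +kernel

theorem rel8 : T.rel 1 [4, 2, 4, 2] 0 1 = true := by decide +kernel

theorem rel9 : T.rel 1 [5, 2, 5, 2] 0 1 = true := by decide +kernel

theorem rel10 : T.rel 1 [11, 12, 11, 12, 11, 12, 11, 12, 1] 0 1 = true := by decide +kernel

theorem rel11 : T.rel 1 [5, 3, 5, 3] 0 1 = true := by decide +kernel

theorem rel12 : T.rel 1 [5, 4, 5, 4, 5, 4] 0 1 = true := by decide +kernel

theorem rel13 : T.rel 1 [5, 4, 3, 2, 5, 4, 3, 2, 5, 4, 3, 2, 5, 4, 3, 2, 5, 4, 3, 2, 5, 4, 3, 2, 5, 4, 3, 2, 5, 4, 3, 2] 0 1 = true := by decide +kernel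

theorem rel14 : T.rel 1 [6, 6, 6, 6, 6, 6, 6] 0 1 = true := by decide +kernel

theorem rel15 : T.rel 1 [1, 6, 9, 14] 0 1 = true := by decide +kernel

theorem rel16 : T.rel 1 [2, 6, 10, 14] 0 1 = true := by decide +kernel

theorem rel17 : T.rel 1 [3, 6, 11, 14] 0 1 = true := by decide +kernel

theorem rel18 : T.rel 1 [4, 6, 4, 6] 0 1 = true := by decide +kernel

theorem rel19 : T.rel 1 [6, 6, 6, 13, 14, 14, 5, 14, 13] 0 1 = true := by decide +kernel

theorem rel20 : T.rel 1 [7, 7, 7] 0 1 = true := by decide +kernel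

theorem rel21 : T.rel 1 [1, 7, 9, 15] 0 1 = true := by decide +kernel

theorem rel22 : T.rel 1 [2, 7, 10, 15] 0 1 = true := by decide +kernel

theorem rel23 : T.rel 1 [3, 7, 11, 15] 0 1 = true := by decide +kernel

theorem rel24 : T.rel 1 [4, 7, 12, 15] 0 1 = true := by decide +kernel

theorem rel25 : T.rel 1 [5, 7, 13, 15] 0 1 = true := by decide +kernel

theorem rel26 : T.rel 1 [14, 14, 7, 6, 15] 0 1 = true := by decide +kernel

theorem rel27 : T.rel 1 [9, 11, 8, 8] 0 1 = true := by decide +kernel

theorem rel28 : T.rel 1 [1, 8, 9, 16] 0 1 = true := by decide +kernel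

theorem rel29 : T.rel 1 [3, 8, 11, 16] 0 1 = true := by decide +kernel

theorem rel30 : T.rel 1 [5, 8, 13, 16] 0 1 = true := by decide +kernel

theorem rel31 : T.rel 1 [8, 4, 16, 5, 4, 8, 4, 16, 5, 4] 0 1 = true := by decide +kernel

theorem rel32 : T.rel 1 [13, 2, 3, 1, 10, 8, 2, 9, 11, 10, 16] 0 1 = true := by decide +kernel

theorem rel33 : T.rel 1 [16, 13, 2, 9, 11, 10, 4, 16, 12, 13, 11, 2, 3, 1, 10, 4, 8, 12, 2, 9, 11, 10, 4, 16, 12] 0 1 = true := by decide +kernel

theorem rel34 : T.rel 1 [7, 8, 7, 16] 0 1 = true := by decide +kernel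

theorem rel35 : T.rel 1 [6, 6, 8, 14, 14, 5, 6, 6, 16, 14, 14, 13] 0 1 = true := by decide +kernel

theorem rel36 : T.rel 1 [16, 14, 16, 14, 16, 14, 3, 1] 0 1 = true := by decide +kernel

theorem rel37 : T.rel 1 [8, 6, 16, 14, 8, 6, 16, 14, 8, 6, 16, 14, 8, 6, 16, 14, 3, 1] 0 1 = true := by decide +kernel

theorem rel38 : T.rel 1 [9, 11, 4, 11, 12, 14, 5, 4, 11, 12, 13, 6, 6, 6, 5, 4, 11, 12, 13, 8, 14, 14, 4, 6, 6, 8, 14, 14, 4, 6, 6, 8, 14, 14, 4, 6, 6, 8, 14, 14, 4] 0 1 = true := by decide +kernel

theorem rel39 : T.rel 1 [4, 8, 14, 4, 8] 0 1 = true := by decide +kernel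

theorem hcov : T.treeCov (ones 1) L 1 = true := by decide +kernel

theorem hg : lall (fun z => band (memL L z) (band (sub (ones 1) (T.let z).cl) (T.closed (ones 1) z))) gs = true := by decide +kernel

theorem hivk : ivOk (2 * 0) EX IV = true := by decide +kernel

theorem hrt : RT.ok (2 * 0) EX RL = true := by decide +kernel

theorem hdefs : defs F 95 = true := by decide +kernel

noncomputable def st0_l : List Nat := [nat_lit 0x1, nat_lit 0x801, nat_lit 0x1001, nat_lit 0x3001, nat_lit 0xc0000100002403, nat_lit 0x3801, nat_lit 0x100000100001c03, nat_lit 0x12000608002fc03, nat_lit 0xa0005f80033003, nat_lit 0x140006200031c03, nat_lit 0x140000100002c03, nat_lit 0x5801, nat_lit 0x6001, nat_lit 0x1c0006180001c03, nat_lit 0x36001, nat_lit 0x44000db0000e00007c04, nat_lit 0x10000c20000f80037004, nat_lit 0x1400007000118003780018c0000c0000100001c08, nat_lit 0x200007000033c03, nat_lit 0xd30007080032803, nat_lit 0x220007000002803, nat_lit 0x7100008002, nat_lit 0x7200005002, nat_lit 0x7200034402, nat_lit 0xdc0007380001403,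 nat_lit 0xdf0007380001c03, nat_lit 0x1a0007700007803, nat_lit 0xe9000780003b003, nat_lit 0x7900006802, nat_lit 0xea0007a00033403, nat_lit 0x7c00030402, nat_lit 0x7c00003c02, nat_lit 0x7c00000802, nat_lit 0x7c00032002, nat_lit 0x30000f60007b00035004, nat_lit 0x8100035c02, nat_lit 0x8100006002, nat_lit 0x1f8000ff0006100005c0020e000040007d00040408, nat_lit 0x41c00008000fa00080800420001f8000010007d00040409, nat_lit 0x1080008500041403, nat_lit 0xc20008600040003, nat_lit 0x80043c02, nat_lit 0x9001, nat_lit 0x9801, nat_lit 0x9800048001100008900045005, nat_lit 0xa001, nat_lit 0xa801, nat_lit 0xb001, nat_lit 0xd801, nat_lit 0x340008a00047803, nat_lit 0x380001300047003, nat_lit 0x3a000130000bc03, nat_lit 0x3a0008a8000bc03, nat_lit 0x3a0008b0000ec03, nat_lit 0x3c000130000c403, nat_lit 0x3c0008a8000c403, nat_lit 0x3c0008f00048003, nat_lit 0x280001a8004b803, nat_lit 0x360001e8004c003, nat_lit 0x12a000980004c803, nat_lit 0x131000968004d403, nat_lit 0x3e0001300046003, nat_lit 0x3e000130000d403, nat_lit 0x40000140000bc03, nat_lit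 0x400008c8000bc03, nat_lit 0x42000150000cc03, nat_lit 0x50001, nat_lit 0x460008d8000bc03, nat_lit 0x51001, nat_lit 0x4a000160000c403, nat_lit 0x4c000160000d403, nat_lit 0x13801, nat_lit 0x1380024c001290009280053005, nat_lit 0xa4001470002300012404, nat_lit 0x600011a0002480054004, nat_lit 0x680002f000298005480026a00136000140000bc08, nat_lit 0x13b000aa80049003, nat_lit 0x13d000aa0004b803, nat_lit 0x50000aa00052803, nat_lit 0x52000aa0000d003, nat_lit 0xaa00048402, nat_lit 0xab0000f802, nat_lit 0xab0004e402, nat_lit 0xac0004fc02, nat_lit 0xac0004f402, nat_lit 0xad00014002, nat_lit 0x150000ae8000ac03, nat_lit 0x153000ae8000bc03, nat_lit 0xae00014802, nat_lit 0x44000b500012003, nat_lit 0x12b000b680049003, nat_lit 0x169000b600052003, nat_lit 0x134000b68005b803, nat_lit 0xb800011002, nat_lit 0xb900059402, nat_lit 0x131000b980058403, nat_lit 0xb900059c02, nat_lit 0xba0005a402, nat_lit 0xbb00057802, nat_lit 0xbe00046402, nat_lit 0xbe00058802, nat_lit 0x840011b000c180051004, nat_lit 0x138002f400129000bf80053005, nat_lit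 0x380008b8006140004e00116000c38004a00024a0017a000948006180b, nat_lit 0x122000c680045403, nat_lit 0x4a000c780060c03, nat_lit 0xc70000b002, nat_lit 0xc800060402, nat_lit 0x28c0016e0001980050c04, nat_lit 0xa00006240028a00195000b7000468002f20002a000c980060c0a, nat_lit 0x145000cc00050c03, nat_lit 0xcd00051402, nat_lit 0xcd00065c02, nat_lit 0x88800448002de0004f000a70006280009c00194000b700044c0a, nat_lit 0x4a00024a0017a000948005ec003280019c000cf0006740009e0018b000a7800138003280016e000158005e00005400113000d0000444002240002b000bc8000a819, nat_lit 0x34400129000d180044c04, nat_lit 0x1280069402, nat_lit 0x15001, nat_lit 0x15801, nat_lit 0x5a000d480044403, nat_lit 0x1ad000888006b003, nat_lit 0x5c0002d8006b803, nat_lit 0x5e000d580016403, nat_lit 0x6c801, nat_lit 0x620002c0006a403, nat_lit 0xc8001b50002f00018404, nat_lit 0xb4001aa000308006e004, nat_lit 0xb800059000328006e80035a00110000d400016408, nat_lit 0x62000de0006c403, nat_lit 0x64000de00017003, nat_lit 0x380001ba000df0006dc04, nat_lit 0x2a80070c02, nat_lit 0x19801, nat_lit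 0x66000d300071803, nat_lit 0x1a001, nat_lit 0x1a801, nat_lit 0x1b001, nat_lit 0x70000e48001c403, nat_lit 0x1d001, nat_lit 0x72000e500074803, nat_lit 0x1d801, nat_lit 0x1e001, nat_lit 0x6c000e500076003, nat_lit 0x7a000340001bc03, nat_lit 0x7a000e900075003, nat_lit 0x6a0003980077803, nat_lit 0x740003d80078003, nat_lit 0x1dc000f000078803, nat_lit 0x7c000340001c403, nat_lit 0x7e0003400073003, nat_lit 0x7e000e900079003, nat_lit 0x20001, nat_lit 0x1000006a0003300044400388001c6000e60007b008, nat_lit 0x1d800396001cc000f60007b8001000006a0003300071009, nat_lit 0x1d6000f880019c03, nat_lit 0x78000f98001b403, nat_lit 0x7a000f98001bc03, nat_lit 0xf90001a002, nat_lit 0x7c000f98001c403, nat_lit 0x7e000f98001cc03, nat_lit 0xfa00076802, nat_lit 0xfb00078002, nat_lit 0xfb00077402, nat_lit 0xfd00079c02, nat_lit 0xfe0007ac02, nat_lit 0xfe0007a402, nat_lit 0x820003500073803, nat_lit 0x84000350001c403, nat_lit 0x86000360001bc03, nat_lit 0x86000e78001bc03, nat_lit 0x88000ff80082803, nat_lit 0x23001, nat_lit 0x24001, nat_lit 0x1c60003880085803,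 nat_lit 0x2180008800086403, nat_lit 0x218000e200086403, nat_lit 0x430000670003780023404, nat_lit 0x21c0010d00087c03, nat_lit 0x11c0008d0010f00085c04, nat_lit 0x21000400002140011000024005, nat_lit 0x85001128001c003, nat_lit 0x11200083402, nat_lit 0x82001138001b403, nat_lit 0x209001138001bc03, nat_lit 0x1130001a802, nat_lit 0x2130011580021c03, nat_lit 0x1160001c802, nat_lit 0x11600081c02, nat_lit 0x11800022002, nat_lit 0x2050011480088803, nat_lit 0x452000700003780023c00470000700003780080c08, nat_lit 0x1140023a000e88008ec04, nat_lit 0x900011d80023403, nat_lit 0x11e00022802, nat_lit 0x11f00087c02, nat_lit 0x211001198007240045c001f8000e40008c800480002030011a8009040b, nat_lit 0x236001228008cc03, nat_lit 0x12200083c02, nat_lit 0x1230001b002, nat_lit 0x90c00118002490011a800900004680020200120800234004840008c0012000080c0046a002410004680090c001180006e00125800724003f20022f000e400071c19, nat_lit 0x24c0012100093403, nat_lit 0x12780069c0038a00111000d30009380034e00110000e20006980a, nat_lit 0xe3800940000ce0024a000e380094006,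 nat_lit 0x3380094c02, nat_lit 0x24801, nat_lit 0x920008800095803, nat_lit 0x92000d300095803, nat_lit 0x92000e200095803, nat_lit 0x25001, nat_lit 0x940012d00097803, nat_lit 0x960012c00025c03, nat_lit 0x960012d00025c03, nat_lit 0x960012e00025c03, nat_lit 0x980012e80096403, nat_lit 0x9c0013080027403, nat_lit 0x9c0012f80025c03, nat_lit 0x26a0013680099403, nat_lit 0xa00013300098803, nat_lit 0xa00013180028403, nat_lit 0xa00013380028403, nat_lit 0x1400026e0004e00027c04, nat_lit 0x134000940004b8009c004, nat_lit 0x13b0009e002, nat_lit 0x13d00027802, nat_lit 0x13d0009d802, nat_lit 0x1300025e0013e0009fc04, nat_lit 0x502000a00004b0009a000502002740013900028008, nat_lit 0xa0001410009a403, nat_lit 0x1420009c402, nat_lit 0x2870013200098c004ce00265001430002480034e001c5000888006980b, nat_lit 0x49800a2402, nat_lit 0xa20008800028c03, nat_lit 0xa2000d300028c03, nat_lit 0xa2000e200028c03, nat_lit 0x29001, nat_lit 0xa400147800a4803, nat_lit 0xa40005100095003, nat_lit 0x29700088800a5803, nat_lit 0x297000e2800a5803, nat_lit 0x29801,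 nat_lit 0xa600146800a7003, nat_lit 0xa600147800a7003, nat_lit 0xa600148800a7003, nat_lit 0xa8001468002a403, nat_lit 0xa8001478002a403, nat_lit 0xa8001488002a403, nat_lit 0xaa00148000a3003, nat_lit 0xac0014d800a6403, nat_lit 0xae0014a8002bc03, nat_lit 0xae001498002a403, nat_lit 0x2ae00158800a9c03, nat_lit 0xb000151800a7c03, nat_lit 0xb00014f0002c403, nat_lit 0xb0001510002c403, nat_lit 0xb0000530002ac03, nat_lit 0x2c801, nat_lit 0xb200153800af003, nat_lit 0xb400154000a9003, nat_lit 0xb4001528002d403, nat_lit 0xb4001548002d403, nat_lit 0x168002b200057000ab004, nat_lit 0x1540029200156000b1804, nat_lit 0x592000b400054000aa800592002c4001610002d008, nat_lit 0xb200165000ae803, nat_lit 0xb400165000aac03, nat_lit 0x2cc0015f800b3403, nat_lit 0x1660002c802, nat_lit 0x2c60016780029403, nat_lit 0x167000b0402, nat_lit 0x1670002d002, nat_lit 0x16a0002b002, nat_lit 0x2d10015c000ad8005a0002b500150800a7800544002a00015a000b4c0b, nat_lit 0x2b40016e800b6003, nat_lit 0x16e000b4c02, nat_lit 0x16f00029802, nat_lit 0x562002d600149000a5c04,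 nat_lit 0x159800b58005c4000a50016d000a4c005b2002e000158000b940a, nat_lit 0x2b20017380095403, nat_lit 0x173000b9402, nat_lit 0x2d900174800bac03, nat_lit 0x51800bb402, nat_lit 0xb6000880002dc03, nat_lit 0xb6000e20002dc03, nat_lit 0xb60012a0002dc03, nat_lit 0x16c002ef001778002dc04, nat_lit 0x5c0002d802, nat_lit 0x170002f70017b8002e404, nat_lit 0xba00179000bc003, nat_lit 0x174002f50017b800bf004, nat_lit 0x5fe002fd0017a0002ec04, nat_lit 0x174002f60017e000c0000174002f600179000bc008, nat_lit 0x1810002e802, nat_lit 0xb8001820002d803, nat_lit 0xb7001820002e403, nat_lit 0x60e002ef00184800bec0060e00110000e2000bbc08, nat_lit 0xb600185000be403, nat_lit 0x5b800c3402, nat_lit 0xbc000e280044403, nat_lit 0x1780025400177800c4004, nat_lit 0x626003110012a8002f404, nat_lit 0x178002ee00188000c5000178002ee000e280044408, nat_lit 0x5e800c5c02]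
theorem st0 : band (steps F IV RT base st0_l 95) (Nat.beq (Nat.add 95 (llen st0_l)) 397) = true := by decide +kernel

theorem ep0a : T.treePath [] (Nat.shiftLeft 1 0) 1 = true := by decide +kernel

theorem ep0b : T.treePath [] (Nat.shiftLeft 1 0) 1 = true := by decide +kernel

theorem ep0c : band (lall (fun z => Nat.ble z 255) ([] ++ 1 :: [])) (concl F IV 397 0x44001 (encA ([] ++ 1 :: []) 0)) = true := by decide +kernel

theorem ep0d : band (Rule.ok (2 * 0) EX [] ⟨lapp [] [], [], 0, false⟩) (band (lall (memL L) []) (lall (memL L) [])) = true := by decide +kernel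

theorem cov1 : T.cover 1 [(Nat.shiftLeft 1 0)] = true := by decide +kernel

theorem tl1 : Nat.beq (T.let 1).tt 0 = true := by decide +kernel

theorem ep1a : T.treePath [] (Nat.shiftLeft 1 0) 1 = true := by decide +kernel

theorem ep1b : T.treePath [] (Nat.shiftLeft 1 0) 1 = true := by decide +kernel

theorem ep1c : band (lall (fun z => Nat.ble z 255) ([] ++ 2 :: [])) (concl F IV 397 0x69801 (encA ([] ++ 2 :: []) 0)) = true := by decide +kernel

theorem ep1d : band (Rule.ok (2 * 0) EX [] ⟨lapp [] [], [], 0, false⟩) (band (lall (memL L) []) (lall (memL L) [])) = true := by decide +kernel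

theorem cov2 : T.cover 2 [(Nat.shiftLeft 1 0)] = true := by decide +kernel

theorem tl2 : Nat.beq (T.let 2).tt 0 = true := by decide +kernel

theorem ep2a : T.treePath [] (Nat.shiftLeft 1 0) 1 = true := by decide +kernel

theorem ep2b : T.treePath [] (Nat.shiftLeft 1 0) 1 = true := by decide +kernel

theorem ep2c : band (lall (fun z => Nat.ble z 255) ([] ++ 3 :: [])) (concl F IV 397 0x71001 (encA ([] ++ 3 :: []) 0)) = true := by decide +kernel

theorem ep2d : band (Rule.ok (2 * 0) EX [] ⟨lapp [] [], [], 0, false⟩) (band (lall (memL L) []) (lall (memL L) [])) = true := by decide +kernel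

theorem cov3 : T.cover 3 [(Nat.shiftLeft 1 0)] = true := by decide +kernel

theorem tl3 : Nat.beq (T.let 3).tt 0 = true := by decide +kernel

theorem ep3a : T.treePath [] (Nat.shiftLeft 1 0) 1 = true := by decide +kernel

theorem ep3b : T.treePath [] (Nat.shiftLeft 1 0) 1 = true := by decide +kernel

theorem ep3c : band (lall (fun z => Nat.ble z 255) ([] ++ 4 :: [])) (concl F IV 397 0x95001 (encA ([] ++ 4 :: []) 0)) = true := by decide +kernel

theorem ep3d : band (Rule.ok (2 * 0) EX [] ⟨lapp [] [], [], 0, false⟩) (band (lall (memL L) []) (lall (memL L) [])) = true := by decide +kernel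

theorem cov4 : T.cover 4 [(Nat.shiftLeft 1 0)] = true := by decide +kernel

theorem tl4 : Nat.beq (T.let 4).tt 0 = true := by decide +kernel

theorem ep4a : T.treePath [] (Nat.shiftLeft 1 0) 1 = true := by decide +kernel

theorem ep4b : T.treePath [] (Nat.shiftLeft 1 0) 1 = true := by decide +kernel

theorem ep4c : band (lall (fun z => Nat.ble z 255) ([] ++ 5 :: [])) (concl F IV 397 0xa2801 (encA ([] ++ 5 :: []) 0)) = true := by decide +kernel

theorem ep4d : band (Rule.ok (2 * 0) EX [] ⟨lapp [] [], [], 0, false⟩) (band (lall (memL L) []) (lall (memL L) [])) = true := by decide +kernel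

theorem cov5 : T.cover 5 [(Nat.shiftLeft 1 0)] = true := by decide +kernel

theorem tl5 : Nat.beq (T.let 5).tt 0 = true := by decide +kernel

theorem ep5a : T.treePath [] (Nat.shiftLeft 1 0) 1 = true := by decide +kernel

theorem ep5b : T.treePath [] (Nat.shiftLeft 1 0) 1 = true := by decide +kernel

theorem ep5c : band (lall (fun z => Nat.ble z 255) ([] ++ 6 :: [])) (concl F IV 397 0xbb801 (encA ([] ++ 6 :: []) 0)) = true := by decide +kernel

theorem ep5d : band (Rule.ok (2 * 0) EX [] ⟨lapp [] [], [], 0, false⟩) (band (lall (memL L) []) (lall (memL L) [])) = true := by decide +kernel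

theorem cov6 : T.cover 6 [(Nat.shiftLeft 1 0)] = true := by decide +kernel

theorem tl6 : Nat.beq (T.let 6).tt 0 = true := by decide +kernel

theorem ep6a : T.treePath [] (Nat.shiftLeft 1 0) 1 = true := by decide +kernel

theorem ep6b : T.treePath [] (Nat.shiftLeft 1 0) 1 = true := by decide +kernel

theorem ep6c : band (lall (fun z => Nat.ble z 255) ([] ++ 7 :: [])) (concl F IV 397 0xc3801 (encA ([] ++ 7 :: []) 0)) = true := by decide +kernel

theorem ep6d : band (Rule.ok (2 * 0) EX [] ⟨lapp [] [], [], 0, false⟩) (band (lall (memL L) []) (lall (memL L) [])) = true := by decide +kernel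

theorem cov7 : T.cover 7 [(Nat.shiftLeft 1 0)] = true := by decide +kernel

theorem tl7 : Nat.beq (T.let 7).tt 0 = true := by decide +kernel

theorem ep7a : T.treePath [] (Nat.shiftLeft 1 0) 1 = true := by decide +kernel

theorem ep7b : T.treePath [] (Nat.shiftLeft 1 0) 1 = true := by decide +kernel

theorem ep7c : band (lall (fun z => Nat.ble z 255) ([] ++ 8 :: [])) (concl F IV 397 0xc6001 (encA ([] ++ 8 :: []) 0)) = true := by decide +kernel

theorem ep7d : band (Rule.ok (2 * 0) EX [] ⟨lapp [] [], [], 0, false⟩) (band (lall (memL L) []) (lall (memL L) [])) = true := by decide +kernel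

theorem cov8 : T.cover 8 [(Nat.shiftLeft 1 0)] = true := by decide +kernel

theorem tl8 : Nat.beq (T.let 8).tt 0 = true := by decide +kernel

theorem rot9_1 : T.rot 9 [1] (sel (ones 1) ip9 1) = true := by decide +kernel

theorem rot9_1r : band (Rule.ok (2 * 0) EX RL ⟨9 :: [1], [], 40, false⟩) (lall (memL L) [1]) = true := by decide +kernel

theorem cov9 : T.cover 9 [(sel (ones 1) ip9 1)] = true := by decide +kernel

theorem tl9 : Nat.beq (T.let 9).tt 0 = true := by decide +kernel

theorem rot10_1 : T.rot 10 [2] (sel (ones 1) ip10 1) = true := by decide +kernel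

theorem rot10_1r : band (Rule.ok (2 * 0) EX RL ⟨10 :: [2], [], 40, false⟩) (lall (memL L) [2]) = true := by decide +kernel

theorem cov10 : T.cover 10 [(sel (ones 1) ip10 1)] = true := by decide +kernel

theorem tl10 : Nat.beq (T.let 10).tt 0 = true := by decide +kernel

theorem rot11_1 : T.rot 11 [3] (sel (ones 1) ip11 1) = true := by decide +kernel

theorem rot11_1r : band (Rule.ok (2 * 0) EX RL ⟨11 :: [3], [], 40, false⟩) (lall (memL L) [3]) = true := by decide +kernel

theorem cov11 : T.cover 11 [(sel (ones 1) ip11 1)] = true := by decide +kernel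

theorem tl11 : Nat.beq (T.let 11).tt 0 = true := by decide +kernel

theorem rot12_1 : T.rot 12 [4] (sel (ones 1) ip12 1) = true := by decide +kernel

theorem rot12_1r : band (Rule.ok (2 * 0) EX RL ⟨12 :: [4], [], 40, false⟩) (lall (memL L) [4]) = true := by decide +kernel

theorem cov12 : T.cover 12 [(sel (ones 1) ip12 1)] = true := by decide +kernel

theorem tl12 : Nat.beq (T.let 12).tt 0 = true := by decide +kernel

theorem rot13_1 : T.rot 13 [5] (sel (ones 1) ip13 1) = true := by decide +kernel

theorem rot13_1r : band (Rule.ok (2 * 0) EX RL ⟨13 :: [5], [], 40, false⟩) (lall (memL L) [5]) = true := by decide +kernel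

theorem cov13 : T.cover 13 [(sel (ones 1) ip13 1)] = true := by decide +kernel

theorem tl13 : Nat.beq (T.let 13).tt 0 = true := by decide +kernel

theorem rot14_1 : T.rot 14 [4, 8, 4, 8] (sel (ones 1) ip14 1) = true := by decide +kernel

theorem rot14_1r : band (Rule.ok (2 * 0) EX RL ⟨14 :: [4, 8, 4, 8], [7, 15], 39, true⟩) (lall (memL L) [4, 8, 4, 8]) = true := by decide +kernel

theorem cov14 : T.cover 14 [(sel (ones 1) ip14 1)] = true := by decide +kernel

theorem tl14 : Nat.beq (T.let 14).tt 0 = true := by decide +kernel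

theorem rot15_1 : T.rot 15 [7] (sel (ones 1) ip15 1) = true := by decide +kernel

theorem rot15_1r : band (Rule.ok (2 * 0) EX RL ⟨15 :: [7], [], 40, false⟩) (lall (memL L) [7]) = true := by decide +kernel

theorem cov15 : T.cover 15 [(sel (ones 1) ip15 1)] = true := by decide +kernel

theorem tl15 : Nat.beq (T.let 15).tt 0 = true := by decide +kernel

theorem rot16_1 : T.rot 16 [7, 8, 7] (sel (ones 1) ip16 1) = true := by decide +kernel

theorem rot16_1r : band (Rule.ok (2 * 0) EX RL ⟨16 :: [7, 8, 7], [15], 34, true⟩) (lall (memL L) [7, 8, 7]) = true := by decide +kernel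

theorem cov16 : T.cover 16 [(sel (ones 1) ip16 1)] = true := by decide +kernel

theorem tl16 : Nat.beq (T.let 16).tt 0 = true := by decide +kernel

end Cfsg.Agent.Spor.ThN1
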